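import Groth.Agent.FEtRank.Split
import Groth.Agent.S0285
import Groth.Agent.S0294
import Mathlib

/-!
# Finite étale covers of schemes with discrete space and separably closed residue fields
-/

set_option autoImplicit false
set_option linter.style.haveILetI false
set_option backward.isDefEq.respectTransparency false
set_option backward.isDefEq.respectTransparency.types false

universe u

open CategoryTheory CategoryTheory.Limits AlgebraicGeometry

noncomputable section

namespace Groth.Agent.CurveFEt

open Groth.Agent.FEtRank Groth.Agent.FEtGal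

/-- the trivial cover of degree `n` -/
def triv (X : Scheme.{u}) (n : ℕ) : FEt.Cat X := ∐ fun _ : Fin n => one X

/-- base change of the trivial cover -/
theorem nonempty_restrict_triv {X Y : Scheme.{u}} (f : X ⟶ Y) (n : ℕ) :
    Nonempty ((FEt.restrict f).obj (triv Y n) ≅ triv X n) := by
  haveI := (Groth.Agent.S0285.result f).2
  let a : (FEt.restrict f).obj (one Y) ≅ one X :=
    MorphismProperty.Over.isoMk (asIso (pullback.snd (𝟙 Y) f)) (Category.comp_id _)
  exact ⟨PreservesCoproduct.iso (FEt.restrict f) (fun _ : Fin n => one Y) ≪≫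
    Sigma.mapIso fun _ => a⟩

variable {P : Scheme.{u}} (E : FEt.Cat P) (hsep : ∀ p : P, IsSepClosed (P.residueField p))

include hsep in
/-- residue extensions of a cover are trivial over separably closed residue fields -/
theorem surjective_residueFieldMap (q : E.left) :
    Function.Surjective ((str E).residueFieldMap q).hom := by
  haveI : IsFinite (str E) := E.prop.1
  haveI : Etale (str E) := E.prop.2
  haveI := hsep ((str E) q)
  letI : Algebra (P.residueField ((str E) q)) (E.left.residueField q) := ((str E).residueFieldMap q).hom.toAlgebra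
  haveI : Algebra.IsSeparable (P.residueField ((str E) q)) (E.left.residueField q) := inferInstance
  exact IsSepClosed.algebraMap_surjective (P.residueField ((str E) q)) (E.left.residueField q)

include hsep in
/-- geometric fibres are the fibres of the space -/
theorem bijective_fiber_pt {Ω : Type u} [Field Ω] [IsAlgClosed Ω] (ξ : Spec (CommRingCat.of Ω) ⟶ P) :
    Function.Bijective fun s : FEt.fiberObj ξ E =>
      (⟨s.1 (pt₀ Ω), by rw [Set.mem_preimage, Set.mem_singleton_iff, ← Scheme.Hom.comp_apply]; exact congrArg (fun t : Spec (CommRingCat.of Ω) ⟶ P => t (pt₀ Ω)) s.2⟩ :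
        ↥((str E) ⁻¹' {ξ (pt₀ Ω)})) := by
  refine ⟨fun s t hst => ?_, fun ⟨q, hq⟩ => ?_⟩
  · obtain ⟨⟨q, a⟩, hs⟩ := (Scheme.SpecToEquivOfField Ω E.left).symm.surjective s.1
    obtain ⟨⟨q', b⟩, ht⟩ := (Scheme.SpecToEquivOfField Ω E.left).symm.surjective t.1
    change Spec.map a ≫ E.left.fromSpecResidueField q = s.1 at hs
    change Spec.map b ≫ E.left.fromSpecResidueField q' = t.1 at ht
    have hqq : q = q' := by
      have h1 : s.1 (pt₀ Ω) = t.1 (pt₀ Ω) := congrArg Subtype.val hst
      rw [← hs, ← ht, Scheme.Hom.comp_apply, Scheme.Hom.comp_apply, Scheme.fromSpecResidueField_apply,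
        Scheme.fromSpecResidueField_apply] at h1
      exact h1
    subst hqq
    have h2 : (str E).residueFieldMap q ≫ a = (str E).residueFieldMap q ≫ b := by
      apply Spec.map_injective
      rw [Spec.map_comp, Spec.map_comp, ← cancel_mono (P.fromSpecResidueField _), Category.assoc, Category.assoc,
        Scheme.Hom.SpecMap_residueFieldMap_fromSpecResidueField, ← Category.assoc, ← Category.assoc, hs, ht]
      exact s.2.trans t.2.symm
    have hab : a = b := CommRingCat.hom_ext (RingHom.ext fun z => by
      obtain ⟨w, rfl⟩ := surjective_residueFieldMap E hsep q z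
      exact ConcreteCategory.congr_hom h2 w)
    exact Subtype.ext (by rw [← hs, ← ht, hab])
  · obtain ⟨⟨p, c⟩, hξ⟩ := (Scheme.SpecToEquivOfField Ω P).symm.surjective ξ
    change Spec.map c ≫ P.fromSpecResidueField p = ξ at hξ
    have hp : ξ (pt₀ Ω) = p := by rw [← hξ, Scheme.Hom.comp_apply, Scheme.fromSpecResidueField_apply]
    obtain rfl : p = (str E) q := hp.symm.trans hq.symm
    let e := RingEquiv.ofBijective ((str E).residueFieldMap q).hom
      ⟨RingHom.injective _, surjective_residueFieldMap E hsep q⟩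
    let d : E.left.residueField q ⟶ CommRingCat.of Ω := CommRingCat.ofHom (c.hom.comp e.symm.toRingHom)
    have hd : (str E).residueFieldMap q ≫ d = c := CommRingCat.hom_ext (RingHom.ext fun z => by
      show c.hom (e.symm (e z)) = _
      rw [RingEquiv.symm_apply_apply])
    refine ⟨⟨Spec.map d ≫ E.left.fromSpecResidueField q, ?_⟩, Subtype.ext ?_⟩
    · show (Spec.map d ≫ E.left.fromSpecResidueField q) ≫ str E = ξ
      rw [Category.assoc, ← Scheme.Hom.SpecMap_residueFieldMap_fromSpecResidueField, ← Category.assoc,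
        ← Spec.map_comp, hd, hξ]
    · show (Spec.map d ≫ E.left.fromSpecResidueField q) (pt₀ Ω) = q
      rw [Scheme.Hom.comp_apply, Scheme.fromSpecResidueField_apply]

include hsep in
/-- **covers of a discrete scheme with separably closed residue fields are trivial** -/
theorem nonempty_iso_triv [DiscreteTopology P] (n : ℕ) (hn : ∀ p, (str E).finrank p = n) :
    Nonempty (E ≅ triv P n) := by
  classical
  haveI : IsFinite (str E) := E.prop.1
  haveI : Etale (str E) := E.prop.2
  have hcard : ∀ p, Nonempty (↥((str E) ⁻¹' {p}) ≃ Fin n) := fun p => by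
    obtain ⟨Ω, _, _, ξ, rfl⟩ := exists_geomPt p
    haveI : Finite (FEt.fiberObj ξ E) := Groth.Agent.S0294.result ξ E
    exact ⟨(Equiv.ofBijective _ (bijective_fiber_pt E hsep ξ)).symm.trans
      (Finite.equivFinOfCardEq ((natCard_fiber ξ E).trans (hn _)))⟩
  choose b hb using fun p => (hcard p).elim fun e => (⟨e, trivial⟩ : ∃ _e : ↥((str E) ⁻¹' {p}) ≃ Fin n, True)
  let lab : E.left → Fin n := fun q => b ((str E) q) ⟨q, rfl⟩
  haveI : DiscreteTopology E.left := by
    refine discreteTopology_iff_isOpen_singleton.2 fun q => ?_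
    let S₀ := (str E) ⁻¹' {(str E) q}
    have hS : IsOpen S₀ := (isOpen_discrete _).preimage (str E).continuous
    haveI : Finite S₀ := Finite.of_equiv _ (b _).symm
    haveI : DiscreteTopology S₀ := ((str E).isDiscrete_preimage_singleton _).to_subtype
    have := hS.isOpenEmbedding_subtypeVal.isOpenMap _ (isOpen_discrete ({⟨q, rfl⟩} : Set S₀))
    rwa [Set.image_singleton] at this
  let U : Fin n → E.left.Opens := fun k => ⟨lab ⁻¹' {k}, isOpen_discrete _⟩
  have hU : ∀ k, ∀ p, ∃! q : U k, (str E) q.1 = p := fun k p => by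
    refine ⟨⟨((b p).symm k).1, ?_⟩, ((b p).symm k).2, fun q hq => ?_⟩
    · have key : ∀ p' (h : (str E) ((b p).symm k).1 = p'), b p' ⟨((b p).symm k).1, h⟩ = k → lab ((b p).symm k).1 = k := by
        rintro p' rfl h'; exact h'
      exact key p ((b p).symm k).2 ((b p).apply_symm_apply k)
    · have key : ∀ p' (h : (str E) q.1 = p'), b p' ⟨q.1, h⟩ = k := by
        rintro p' rfl; exact q.2
      exact Subtype.ext (show q.1 = ((b p).symm k).1 from congrArg Subtype.val (((b p).eq_symm_apply).2 (key p hq)))
  let W : Fin n → FEt.Cat P := fun k => MorphismProperty.Over.mk ⊤ ((U k).ι ≫ str E) (by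
    haveI : IsClosedImmersion (U k).ι := IsClosedImmersion.of_isPreimmersion _ (by
      rw [Scheme.Opens.range_ι]; exact isClosed_discrete _)
    exact ⟨inferInstance, inferInstance⟩)
  have hiso : ∀ k, IsIso (toOne (W k)) := fun k => by
    refine isIso_of_forall_bijective _ fun Ω _ _ ξ => ?_
    haveI := subsingleton_fiber_one (X := P) ξ
    refine ⟨fun s t _ => ?_, fun _ => ?_⟩
    · obtain ⟨q, -, hu⟩ := hU k (ξ (pt₀ Ω))
      have h1 : s.1 (pt₀ Ω) = t.1 (pt₀ Ω) :=
        (hu _ (congrArg (fun r : Spec (CommRingCat.of Ω) ⟶ P => r (pt₀ Ω)) s.2)).trans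
          (hu _ (congrArg (fun r : Spec (CommRingCat.of Ω) ⟶ P => r (pt₀ Ω)) t.2)).symm
      exact (bijective_fiber_pt (W k) hsep ξ).1 (Subtype.ext h1)
    · obtain ⟨q, hq, -⟩ := hU k (ξ (pt₀ Ω))
      obtain ⟨s, -⟩ := (bijective_fiber_pt (W k) hsep ξ).2 ⟨q, hq⟩
      exact ⟨s, Subsingleton.elim _ _⟩
  let s : Fin n → (one P ⟶ E) := fun k =>
    haveI := hiso k
    inv (toOne (W k)) ≫ MorphismProperty.Over.homMk (U k).ι rfl
  have hs : ∀ k (p : P), lab ((s k).left p) = k := fun k p => by
    haveI := hiso k
    exact (((inv (toOne (W k))).left p) : U k).2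
  haveI : IsIso (Sigma.desc s) := by
    refine isIso_of_forall_bijective _ fun Ω _ _ ξ => bijective_desc s ξ ?_
    haveI : Finite (FEt.fiberObj ξ E) := Groth.Agent.S0294.result ξ E
    refine (Nat.bijective_iff_injective_and_card _).2 ⟨fun i j hij => ?_, by
      rw [natCard_fiber ξ E, hn, Nat.card_eq_fintype_card, Fintype.card_fin]⟩
    have h1 : (s i).left (ξ (pt₀ Ω)) = (s j).left (ξ (pt₀ Ω)) :=
      congrArg (fun t : FEt.fiberObj ξ E => t.1 (pt₀ Ω)) hij
    exact (hs i _).symm.trans ((congrArg lab h1).trans (hs j _))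
  exact ⟨(asIso (Sigma.desc s)).symm⟩

end Groth.Agent.CurveFEt
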