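import Groth.Agent.CurveFEt.Discrete
import Groth.Agent.ClosedUnion.Pushout
import Groth.Agent.Pinch.Charts
import Groth.Agent.S1186
import Groth.Agent.S0238
import Groth.Agent.EtPBC.CdFibre
import Groth.Agent.EtPBC.Skyscraper
import Groth.Agent.SubDescent.FlatEmb
import Mathlib

/-!
# Extension of finite étale covers from a connected closed subscheme of a curve
-/

set_option autoImplicit false
set_option linter.style.haveILetI false
set_option backward.isDefEq.respectTransparency false
set_option backward.isDefEq.respectTransparency.types false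
set_option maxHeartbeats 1000000

universe u

open CategoryTheory CategoryTheory.Limits AlgebraicGeometry TopologicalSpace

noncomputable section

namespace Groth.Agent.CurveFEt

open Groth.Agent.FEtRank Groth.Agent.FEtGal

/-- restriction along a composite -/
def rComp {X Y Z : Scheme.{u}} (f : X ⟶ Y) (g : Y ⟶ Z) (h : X ⟶ Z) (w : f ≫ g = h) :
    FEt.restrict h ≅ FEt.restrict g ⋙ FEt.restrict f :=
  MorphismProperty.Over.pullbackComp f g _ w.symm

/-- specialisations realise the closure of an open set -/
theorem exists_specializes_of_open {Z : Scheme.{u}} [IsLocallyNoetherian Z] (U : Z.Opens) {x : Z}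
    (hx : x ∈ closure (U : Set Z)) : ∃ z ∈ U, z ⤳ x := by
  obtain ⟨z, -, hz⟩ := SubDescent.exists_specializes_of_mem_closure_image U.ι isClosed_univ (y := x) (by
    rw [Set.image_univ, Scheme.Opens.range_ι]; exact hx)
  exact ⟨U.ι z, z.2, hz⟩

/-- no chains of two proper specialisations in dimension one -/
theorem isClosed_of_specializes {Z : Scheme.{u}} (hdim : topologicalKrullDim Z ≤ 1) {z x : Z} (h : z ⤳ x)
    (hne : z ≠ x) : IsClosed ({x} : Set Z) := by
  refine isClosed_of_closure_subset fun y hy => ?_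
  by_contra hne'
  have hxy : x ⤳ y := specializes_iff_mem_closure.2 hy
  have h2 := Unibranch.natCast_le_topologicalKrullDim (fun i : Fin 3 => ![z, x, y] i) fun i => by
    fin_cases i
    · exact ⟨h, hne⟩
    · exact ⟨hxy, fun he => hne' (Set.mem_singleton_iff.2 (Eq.symm he))⟩
  have := le_trans h2 hdim
  exact absurd (ENat.natCast_le_natCast.1 (WithBot.coe_le_coe.1 this)) (by omega)

/-- residue fields along closed immersions -/
theorem isSepClosed_of_closedImmersion {P Z : Scheme.{u}} (ι : P ⟶ Z) [IsClosedImmersion ι] (p : P)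
    (h : IsSepClosed (Z.residueField (ι p))) : IsSepClosed (P.residueField p) := by
  refine Hensel.isSepClosed_of_ringEquiv (RingEquiv.ofBijective (ι.residueFieldMap p).hom ⟨RingHom.injective _, ?_⟩)
  intro a
  obtain ⟨b, rfl⟩ := IsLocalRing.residue_surjective a
  obtain ⟨b', rfl⟩ := ι.stalkMap_surjective p b
  exact ⟨IsLocalRing.residue _ b', rfl⟩

/-- locally noetherian schemes all whose points are closed are discrete -/
theorem discreteTopology_of_closed {P : Scheme.{u}} [IsLocallyNoetherian P]
    (h : ∀ p : P, IsClosed ({p} : Set P)) : DiscreteTopology P := by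
  refine discreteTopology_iff_isOpen_singleton.2 fun p => ?_
  obtain ⟨U, hU, hpU, -⟩ := exists_isAffineOpen_mem_and_subset (x := p) (U := (⊤ : P.Opens)) trivial
  haveI : IsAffine U.toScheme := hU
  haveI : IsNoetherian U.toScheme := ⟨⟩
  have hfin := EtPBC.finite_of_all_closed (T := U.toScheme) Set.univ isClosed_univ fun c _ d _ hcd =>
    Subtype.ext ((h c.1).closure_eq ▸ specializes_iff_mem_closure.1 (hcd.map continuous_subtype_val) :
      d.1 ∈ ({c.1} : Set P)).symm
  haveI : Finite U.toScheme := Set.finite_univ_iff.1 hfin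
  haveI : T1Space U.toScheme := ⟨fun c => by
    have hc := (h (U.ι c)).preimage U.ι.continuous
    rwa [← Set.image_singleton, Set.preimage_image_eq _ U.ι.isOpenEmbedding.injective] at hc⟩
  have ho : IsOpen ({⟨p, hpU⟩} : Set U.toScheme) := isOpen_discrete _
  have := U.2.isOpenEmbedding_subtypeVal.isOpenMap _ ho
  rwa [Set.image_singleton] at this

/-- covers extend across finitely many separably closed points -/
theorem exists_glue {Z : Scheme.{u}} (I J : Z.IdealSheafData) (hs : Surjective (I ⊓ J).subschemeι)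
    [DiscreteTopology (I ⊔ J).subscheme] (hsep : ∀ p : (I ⊔ J).subscheme, IsSepClosed ((I ⊔ J).subscheme.residueField p))
    [ConnectedSpace I.subscheme] (E : FEt.Cat I.subscheme) :
    ∃ T : FEt.Cat Z, Nonempty ((FEt.restrict I.subschemeι).obj T ≅ E) := by
  let cI := Scheme.IdealSheafData.inclusion (le_sup_left : I ≤ I ⊔ J)
  let cJ := Scheme.IdealSheafData.inclusion (le_sup_right : J ≤ I ⊔ J)
  let a := Scheme.IdealSheafData.inclusion (inf_le_left : I ⊓ J ≤ I)
  haveI : IsClosedImmersion (cI ≫ I.subschemeι) := by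
    rw [Scheme.IdealSheafData.inclusion_subschemeι]; infer_instance
  haveI : IsClosedImmersion cI := IsClosedImmersion.of_comp _ I.subschemeι
  haveI : IsClosedImmersion (cJ ≫ J.subschemeι) := by
    rw [Scheme.IdealSheafData.inclusion_subschemeι]; infer_instance
  haveI : IsClosedImmersion cJ := IsClosedImmersion.of_comp _ J.subschemeι
  haveI : IsFinite (str E) := E.prop.1
  haveI : Etale (str E) := E.prop.2
  obtain ⟨x₀⟩ := (inferInstance : Nonempty I.subscheme)
  let n := (str E).finrank x₀
  have hn : ∀ x, (str E).finrank x = n := fun x =>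
    (str E).isLocallyConstant_finrank.apply_eq_of_preconnectedSpace _ _
  have hn' : ∀ p, (str ((FEt.restrict cI).obj E)).finrank p = n := fun p =>
    (Scheme.Hom.finrank_pullback_snd (str E) cI p).trans (hn _)
  obtain ⟨eE⟩ := nonempty_iso_triv ((FEt.restrict cI).obj E) hsep n hn'
  obtain ⟨eV⟩ := nonempty_restrict_triv cJ n
  have h3 : ∀ y : J.subscheme, ∃ U : I.subscheme.Opens, IsAffineOpen U ∧
      ∀ z : (I ⊔ J).subscheme, cJ z = y → cI z ∈ U := fun y => by
    obtain ⟨U, V, hUV, hy⟩ := Pinch.hasCharts_of_closed cI cJ y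
    refine ⟨U, hUV.affX, fun z hz => ?_⟩
    show z ∈ cI ⁻¹ᵁ U
    rw [hUV.sat]
    show cJ z ∈ V
    rwa [hz]
  obtain ⟨T, ⟨eT⟩, -⟩ := Groth.Agent.S1186.result cI cJ h3 a _ (ClosedUnion.isPushout I J) E (triv J.subscheme n)
    (eE ≪≫ eV.symm)
  haveI := hs
  haveI := Groth.Agent.S0238.result (I ⊓ J).subschemeι
  refine ⟨(FEt.restrict (I ⊓ J).subschemeι).objPreimage T,
    ⟨(rComp a (I ⊓ J).subschemeι _ (Scheme.IdealSheafData.inclusion_subschemeι _)).app _ ≪≫
      (FEt.restrict a).mapIso ((FEt.restrict (I ⊓ J).subschemeι).objObjPreimageIso T) ≪≫ eT⟩⟩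

/-- **extension of covers from a connected closed subscheme of a curve** -/
theorem essSurj_restrict (k : Type u) [Field k] [IsSepClosed k] {Z X : Scheme.{u}}
    (c : Z ⟶ Spec (CommRingCat.of k)) [LocallyOfFiniteType c] (hdim : topologicalKrullDim Z ≤ 1)
    (i : X ⟶ Z) [IsClosedImmersion i] [ConnectedSpace X] : (FEt.restrict i).EssSurj := by
  haveI : IsLocallyNoetherian Z := LocallyOfFiniteType.isLocallyNoetherian c
  let I := i.ker
  have hC : (I.support : Set Z) = Set.range i := by
    rw [Scheme.Hom.support_ker, i.isClosedEmbedding.isClosed_range.closure_eq]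
  let U : Z.Opens := ⟨(Set.range i)ᶜ, i.isClosedEmbedding.isClosed_range.isOpen_compl⟩
  let D : Closeds Z := ⟨closure (U : Set Z), isClosed_closure⟩
  let J := Scheme.IdealSheafData.vanishingIdeal D
  have hJ : (J.support : Set Z) = closure (U : Set Z) :=
    Scheme.IdealSheafData.coe_support_vanishingIdeal D
  have hsup : ∀ z : Z, z ∈ Set.range (I ⊓ J).subschemeι := fun z => by
    by_cases hz : z ∈ Set.range i
    · obtain ⟨y, hy⟩ : z ∈ Set.range I.subschemeι := by
        rw [Scheme.IdealSheafData.range_subschemeι, hC]; exact hz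
      exact ⟨Scheme.IdealSheafData.inclusion (inf_le_left : I ⊓ J ≤ I) y, by
        rw [← Scheme.Hom.comp_apply, Scheme.IdealSheafData.inclusion_subschemeι]; exact hy⟩
    · obtain ⟨y, hy⟩ : z ∈ Set.range J.subschemeι := by
        rw [Scheme.IdealSheafData.range_subschemeι, hJ]; exact subset_closure hz
      exact ⟨Scheme.IdealSheafData.inclusion (inf_le_right : I ⊓ J ≤ J) y, by
        rw [← Scheme.Hom.comp_apply, Scheme.IdealSheafData.inclusion_subschemeι]; exact hy⟩
  let ιP := (I ⊔ J).subschemeι
  have hmem : ∀ p, IsClosed ({ιP p} : Set Z) := fun p => by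
    have h1 : ιP p ∈ ((I ⊔ J).support : Set Z) := by
      rw [← Scheme.IdealSheafData.range_subschemeι]; exact ⟨p, rfl⟩
    rw [Scheme.IdealSheafData.support_sup] at h1
    obtain ⟨hp1, hp2⟩ : ιP p ∈ Set.range i ∧ ιP p ∈ closure (U : Set Z) :=
      ⟨hC ▸ h1.1, hJ ▸ h1.2⟩
    obtain ⟨z, hz, hzp⟩ := exists_specializes_of_open U hp2
    exact isClosed_of_specializes hdim hzp fun he => hz (he.symm ▸ hp1)
  haveI : IsLocallyNoetherian (I ⊔ J).subscheme := LocallyOfFiniteType.isLocallyNoetherian ιP
  haveI := discreteTopology_of_closed fun p => by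
    have := (hmem p).preimage ιP.continuous
    rwa [← Set.image_singleton, Set.preimage_image_eq _ ιP.isClosedEmbedding.injective] at this
  have hsep : ∀ p : (I ⊔ J).subscheme, IsSepClosed ((I ⊔ J).subscheme.residueField p) := fun p =>
    isSepClosed_of_closedImmersion ιP p (EtPBC.isSepClosed_of_isClosed c _ (hmem p))
  let e : X ⟶ I.subscheme := i.toImage
  haveI : IsIso e := inferInstanceAs (IsIso i.toImage)
  haveI : ConnectedSpace I.subscheme := (Scheme.homeoOfIso (asIso e)).surjective.connectedSpace
    (Scheme.homeoOfIso (asIso e)).continuous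
  haveI := Groth.Agent.S0238.result e
  refine ⟨fun E => ?_⟩
  obtain ⟨T, ⟨η⟩⟩ := exists_glue I J ⟨hsup⟩ hsep ((FEt.restrict e).objPreimage E)
  exact ⟨T, ⟨(rComp e I.subschemeι i i.toImage_imageι).app T ≪≫ (FEt.restrict e).mapIso η ≪≫
    (FEt.restrict e).objObjPreimageIso E⟩⟩

end Groth.Agent.CurveFEt
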